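import Groth.Agent.H4.KerDual.Bidual
import Groth.Agent.H4.MulIso
import Groth.Agent.H52.CubeCore
import Groth.Agent.H52.SimpleAmple

/-!
# Pullbacks of the classes of degree zero along a curve in an abelian variety
-/

set_option autoImplicit false
set_option linter.style.haveILetI false
set_option linter.unusedSectionVars false
universe u

open CategoryTheory CategoryTheory.Limits MonoidalCategory CartesianMonoidalCategory MonObj AlgebraicGeometry
open Groth.Agent.H3 Groth.Agent.H4.PicZero Groth.Agent.Lib Groth.Agent.Lib.H3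
open Groth.Agent.H4 Groth.Agent.H4.KerDual
open Groth.Agent.Lib.GrpQ.MonoClosed (ptOf exists_ptOf)

namespace Groth.Agent.H21.SuppFinite

noncomputable section

local instance abVarLaw (Y : Scheme.{u}) : PicGrp.Law Y := Groth.Agent.Lib.TensorMod.Invertible.law Y

variable {k : Type u} [Field k] [IsAlgClosed k]

local notation "S" => Spec (CommRingCat.of k)
local notation "pt" => 𝟙_ (Over (Spec (CommRingCat.of k)))

variable {A At : Over (Spec (CommRingCat.of k))} [GrpObj A] [GrpObj At]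
  [IsProper A.hom] [Smooth A.hom] [GeometricallyConnected A.hom]
  [IsProper At.hom] [Smooth At.hom] [GeometricallyConnected At.hom]
  {φ : ∀ T : Over (Spec (CommRingCat.of k)), PicF.Cl (PicF.XT A.hom T) → (T ⟶ At)}
  (hφ : AbDual.IsDualAV Scheme.fppfPrecoverage A At φ) {ξ : PicLoc.PicSet (A ⊗ At).left}
  (hξ : AbDual.IsPoincareCl A At φ ξ.1)

/-- The class of degree zero of a point of the dual. -/
def slice (ξ : PicLoc.PicSet (A ⊗ At).left) (x : pt ⟶ At) : PicLoc.PicSet A.left :=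
  PicCalc.ph (lift (𝟙 A) (toUnit A ≫ x)) ξ

include hφ hξ in
theorem slice_pow (x : pt ⟶ At) (r : ℕ) : slice ξ (x ^ r) = slice ξ x ^ r := by
  haveI := Groth.Agent.H2.Rigid.GeomIrred.geometricallyIntegral_of_smooth A.hom
  haveI := Groth.Agent.H2.Rigid.GeomIrred.geometricallyIntegral_of_smooth At.hom
  unfold slice
  induction r with
  | zero =>
    rw [pow_zero, pow_zero, MonObj.comp_one]
    have h := poincare_mul_right hφ hξ (𝟙 A) (1 : A ⟶ At) 1
    rw [_root_.mul_one] at h
    exact left_eq_mul.1 h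
  | succ n ih => rw [pow_succ, pow_succ, MonObj.comp_mul, poincare_mul_right hφ hξ, ih]

/-- Multiplication by a positive integer is surjective on rational points. -/
theorem exists_root (G : Over (Spec (CommRingCat.of k))) [GrpObj G] [IsProper G.hom]
    [GeometricallyIntegral G.hom] (x : pt ⟶ G) {r : ℕ} (hr : 0 < r) : ∃ y : pt ⟶ G, y ^ r = x := by
  let m : G ⟶ G := (𝟙 G) ^ r
  haveI : Surjective m.left :=
    (CubeCons.pow_isFinite_flat_surjective (fun V f g h c => H3.CubeRel.cube_rel f g h c) hr).2.2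
  have hcl : IsClosed ({ptOf x} : Set G.left) :=
    (pointEquivClosedPoint G.hom ⟨x.left, Over.w x⟩).2
  obtain ⟨y, hy⟩ := exists_ptOf (X := G) (s := m.left ⁻¹' {ptOf x})
    (hcl.preimage m.left.continuous).isLocallyClosed ⟨_, (Scheme.Hom.surjective m.left (ptOf x)).choose_spec⟩
  refine ⟨y, ?_⟩
  have h : ptOf (y ≫ m) = ptOf x := by
    rw [← GrpQ.MonoClosed.ptOf_comp]
    exact hy
  have h' := (pointEquivClosedPoint G.hom).injective (a₁ := ⟨(y ≫ m).left, Over.w _⟩)
    (a₂ := ⟨x.left, Over.w x⟩) (Subtype.ext h)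
  have e : y ≫ m = x := Over.OverMorphism.ext (congrArg Subtype.val h')
  rw [← e, MonObj.comp_pow, Category.comp_id]

include hφ hξ in
/-- The defect of a class under a translation is a slice of the Poincaré class. -/
theorem exists_slice_eq_defect {L : A.left.Modules} (hL : PicF.IsInvertible L) (a : pt ⟶ A) :
    ∃ x : pt ⟶ At, slice ξ x =
      PicCalc.ph (𝟙 A * (toUnit A ≫ a)) (PicGrp.cls L hL) * (PicGrp.cls L hL)⁻¹ := by
  haveI := Groth.Agent.H2.Rigid.GeomIrred.geometricallyIntegral_of_smooth A.hom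
  haveI : IsCommMonObj A := isCommMonObj_of_isProper_of_geometricallyIntegral A
  let l := PicGrp.cls L hL
  obtain ⟨N, hN, hNl⟩ := PicGrp.exists_eq_cls
    (PicCalc.ph μ[A] l * (PicCalc.ph (fst A A) l)⁻¹ * (PicCalc.ph (snd A A) l)⁻¹ :
      PicLoc.PicSet (A ⊗ A).left)
  have hN' : AgPol.IsLambdaSheaf (μ[A].left : PicF.XT A.hom A ⟶ A.left) (fst A A).left (snd A A).left L N :=
    (PicCalc.iso_iff (PicCalc.cl_tensor (PicCalc.cl_tensor (b := PicCalc.ph (fst A A) l) rfl
        (PicCalc.cl_pullback (fst A A) (a := l) rfl))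
        (PicCalc.cl_pullback (snd A A) (a := l) rfl))
      (PicCalc.cl_pullback μ[A] (a := l) rfl)).2 (by
        show PicGrp.cls N hN * _ * _ = _
        rw [← hNl]; simp [_root_.mul_assoc, mul_comm, mul_left_comm])
  have hc := DualSep.isPicZeroCl_lambda hL hN hN'
  let x : pt ⟶ At := a ≫ φ A (PicF.cl N)
  refine ⟨x, ?_⟩
  haveI : IsLocallyNoetherian (pt).left :=
    inferInstanceAs (IsLocallyNoetherian (Spec (CommRingCat.of k)))
  haveI : Subsingleton (pt).left := inferInstanceAs (Subsingleton (PrimeSpectrum k))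
  haveI : Nonempty (pt).left := inferInstanceAs (Nonempty (PrimeSpectrum k))
  have hξ0 : AbDual.IsPicZeroCl A.hom At ξ.1 := hξ.1
  have ha : AbDual.IsPicZeroCl A.hom pt (PicCalc.ph (A ◁ x) ξ).1 :=
    isPicZeroCl_ph x _ (whiskerLeft_snd _ _) hξ0
  have hb : AbDual.IsPicZeroCl A.hom pt (PicCalc.ph (A ◁ a) (PicGrp.cls N hN)).1 :=
    isPicZeroCl_ph a _ (whiskerLeft_snd _ _) hc
  have hrig : PhiInj.rig (PicCalc.ph (A ◁ x) ξ) = 1 := PicCalc.eq_one_of_subsingleton _
  have hphi : φ pt (PicCalc.ph (A ◁ x) ξ).1 = φ pt (PicCalc.ph (A ◁ a) (PicGrp.cls N hN)).1 := by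
    rw [phi_natural hφ x hξ0, hξ.2.1, Category.comp_id]
    exact (phi_natural hφ a (a := PicGrp.cls N hN) hc).symm
  have key := PhiInj.eq_twist_of_phi_eq hφ ha hb hrig hphi
  rw [PicCalc.eq_one_of_subsingleton (PhiInj.rig _), map_one, inv_one, _root_.mul_one, ← hNl] at key
  have h2 := congrArg (PicCalc.ph (lift (𝟙 A) (toUnit A))) key
  rw [← PicCalc.ph_comp, ← PicCalc.ph_comp, lift_whiskerLeft, lift_whiskerLeft] at h2
  unfold slice
  rw [h2, map_mul, map_mul, map_inv, map_inv, ← PicCalc.ph_comp, ← PicCalc.ph_comp, ← PicCalc.ph_comp,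
    lift_fst, lift_snd, PicCalc.ph_id, PicCalc.ph_comp (toUnit A) a,
    PicCalc.eq_one_of_subsingleton (PicCalc.ph a l), map_one, inv_one, _root_.mul_one]
  congr 2

theorem transl_comp (b d : pt ⟶ A) :
    (𝟙 A * (toUnit A ≫ b)) ≫ (𝟙 A * (toUnit A ≫ d)) = 𝟙 A * (toUnit A ≫ (b * d)) := by
  rw [MonObj.comp_mul (𝟙 A * toUnit A ≫ b), Category.comp_id, ← Category.assoc,
    toUnit_unique ((𝟙 A * (toUnit A ≫ b)) ≫ toUnit A) (toUnit A), MonObj.comp_mul (toUnit A),
    _root_.mul_assoc]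

/-- A curve in an abelian variety on which the defects of an ample class are trivial has finitely
many image points. -/
theorem finite_points_of_trivial (C : Over (Spec (CommRingCat.of k))) [IsProper C.hom] [Flat C.hom]
    [GeometricallyIntegral C.hom] (g : C ⟶ A) {L : A.left.Modules} (hL : CohB1.IsAmple L)
    (h : ∀ a : pt ⟶ A, PicCalc.ph g (PicCalc.ph (𝟙 A * (toUnit A ≫ a)) (PicGrp.cls L hL.1) *
      (PicGrp.cls L hL.1)⁻¹) = 1) : (Set.range fun c : pt ⟶ C => c ≫ g).Finite := by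
  haveI := Groth.Agent.H2.Rigid.GeomIrred.geometricallyIntegral_of_smooth A.hom
  haveI : IsCommMonObj A := isCommMonObj_of_isProper_of_geometricallyIntegral A
  haveI : IsIntegral A.left := GeometricallyIntegral.isIntegral_of_subsingleton A.hom
  haveI : JacobsonSpace A.left := LocallyOfFiniteType.jacobsonSpace A.hom
  let ℓ := PicGrp.cls L hL.1
  let q : A ⊗ C ⟶ A := (snd A C ≫ g) * fst A C
  let δ := PicCalc.ph q ℓ * (PicCalc.ph (snd A C ≫ g) ℓ)⁻¹
  obtain ⟨m, hm⟩ := H52.CubeCore.seesaw δ (closedPoints A.left)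
    (dense_iff_closure_eq.2 closure_closedPoints) fun y hy => by
      obtain ⟨a, ha⟩ := exists_ptOf (X := A) (s := {y}) (IsClosed.isLocallyClosed hy) ⟨y, rfl⟩
      refine ⟨a, ⟨_, ha⟩, ?_⟩
      have h1 := h a
      rw [map_mul, map_inv, ← PicCalc.ph_comp] at h1
      simp only [δ, q, map_mul, map_inv, ← PicCalc.ph_comp, MonObj.comp_mul, lift_fst, lift_snd_assoc,
        Category.id_comp]
      refine Eq.trans ?_ h1
      rw [MonObj.comp_mul, Category.comp_id, ← Category.assoc, toUnit_unique (g ≫ toUnit A) (toUnit C)]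
  by_cases hne : Nonempty (pt ⟶ C)
  swap
  · haveI := not_nonempty_iff.1 hne
    rw [Set.range_eq_empty]
    exact Set.finite_empty
  obtain ⟨c₀⟩ := hne
  let c₀' := c₀ ≫ g
  have hfix : ∀ c : pt ⟶ C, PicCalc.ph (𝟙 A * (toUnit A ≫ (c ≫ g))) ℓ = m := fun c => by
    have h1 := congrArg (PicCalc.ph (lift (𝟙 A) (toUnit A ≫ c))) hm
    simp only [δ, q, map_mul, map_inv, ← PicCalc.ph_comp, MonObj.comp_mul, lift_fst, lift_snd_assoc,
      PicCalc.ph_id] at h1
    rw [Category.assoc] at h1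
    rw [PicCalc.ph_comp (toUnit A) (c ≫ g)] at h1
    haveI : Subsingleton (pt).left := inferInstanceAs (Subsingleton (PrimeSpectrum k))
    haveI : Nonempty (pt).left := inferInstanceAs (Nonempty (PrimeSpectrum k))
    rw [PicCalc.eq_one_of_subsingleton (PicCalc.ph (c ≫ g) ℓ), map_one, inv_one, _root_.mul_one] at h1
    rw [← h1, mul_comm]
  refine ((H52.AmpleNondeg.finite_translationFixing A L hL).image fun b => c₀' * b).subset ?_
  rintro _ ⟨c, rfl⟩
  refine ⟨c₀'⁻¹ * (c ≫ g), ?_, mul_inv_cancel_left _ _⟩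
  refine (PicCalc.iso_iff (PicCalc.cl_pullback _ (a := ℓ) rfl) (b := ℓ) rfl).2 ?_
  rw [← transl_comp, PicCalc.ph_comp, hfix c, ← hfix c₀, ← PicCalc.ph_comp, transl_comp,
    inv_mul_cancel, MonObj.comp_one, _root_.mul_one, PicCalc.ph_id]

end

end Groth.Agent.H21.SuppFinite
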