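import Groth.Agent.Lib.CurveBundle.Saturation
import Groth.Agent.Lib.CurveBundle.LocFree
import Groth.Agent.Lib.CurveBundle.Twist
import Groth.Agent.Lib.Modules.ExtPowTwist
import Groth.Agent.Lib.FundLocal.ExtPowExists
import Groth.Agent.Lib.ExtFilt.Lambda
import Groth.Agent.Lib.PnOmega.CanonicalOver
import Groth.Agent.Lib.Cyc.CH.DetAtlas
import Groth.Agent.H3.PicCalc
import Groth.Agent.Lib.TFOne.Generic

/-!
# A coherent module of positive generic rank isomorphic to its twist makes the twist torsion
-/

set_option autoImplicit false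
set_option linter.style.haveILetI false
universe u

open CategoryTheory Limits AlgebraicGeometry
open Groth.Agent.Lib

namespace Groth.Agent.H21.SuppFinite

noncomputable section

local instance qtwistLaw (Y : Scheme.{u}) : PicGrp.Law Y := Groth.Agent.Lib.TensorMod.Invertible.law Y

variable {X : Scheme.{u}} [IsIntegral X] [IsLocallyNoetherian X]

/-- A map to a torsion-free module vanishing at the generic point is zero. -/
theorem eq_zero_of_generic {K T : X.Modules} [T.IsQuasicoherent] (hT : TorSh.IsTorsionFree T) (φ : K ⟶ T)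
    (h : Modules.StalkModule.stalkMapₗ φ (genericPoint X) = 0) : φ = 0 := by
  refine TFOne.Generic.eq_zero_of_generic hT φ fun η hη => ?_
  rw [genericPoints_eq_singleton] at hη
  obtain rfl : η = genericPoint X := hη
  exact h

/-- The torsion-free quotient receives every map to a torsion-free module. -/
theorem existsUnique_factor {Q T W : X.Modules} (q : Q ⟶ T) [Epi q]
    (hq : Function.Injective (Modules.StalkModule.stalkMapₗ q (genericPoint X)))
    [W.IsQuasicoherent] (hW : TorSh.IsTorsionFree W) (f : Q ⟶ W) : ∃ h : T ⟶ W, q ≫ h = f := by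
  have hz : kernel.ι q ≫ f = 0 := by
    refine eq_zero_of_generic hW _ ?_
    have h0 : Modules.StalkModule.stalkMapₗ (kernel.ι q) (genericPoint X) = 0 := by
      refine LinearMap.ext fun z => hq ?_
      rw [LinearMap.zero_apply, map_zero, ← LinearMap.comp_apply,
        ← Modules.StalkModule.stalkMapₗ_comp, kernel.condition, Modules.StalkModule.stalkMapₗ_zero]
      rfl
    rw [Modules.StalkModule.stalkMapₗ_comp, h0, LinearMap.comp_zero]
  exact ⟨Abelian.epiDesc q f hz, Abelian.comp_epiDesc q f hz⟩

/-- The torsion-free quotient of a module isomorphic to its twist is isomorphic to its twist. -/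
theorem exists_iso_twist {Q T M : X.Modules} (q : Q ⟶ T) [Epi q]
    (hq : Function.Injective (Modules.StalkModule.stalkMapₗ q (genericPoint X)))
    (hT : TorSh.IsTorsionFree T) (hM : PicF.IsInvertible M)
    (hTM : TorSh.IsTorsionFree (CohB1.tensorMod T M))
    (hTM' : TorSh.IsTorsionFree (CohB1.tensorMod T (TensorMod.Dual.dual M)))
    [(CohB1.tensorMod T M).IsQuasicoherent] [(CohB1.tensorMod T (TensorMod.Dual.dual M)).IsQuasicoherent]
    (ψ : CohB1.tensorMod Q M ≅ Q) : Nonempty (CohB1.tensorMod T M ≅ T) := by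
  let F := TensorMod.Basic.tensorBy M
  let G := TensorMod.Basic.tensorBy (TensorMod.Dual.dual M)
  haveI := CurveBundle.Twist.isEquivalence hM
  have hFq : Epi (F.map q) := inferInstance
  let e := CurveBundle.Twist.cancelNat (TensorMod.Invertible.tensorDualIso hM)
  haveI : G.IsEquivalence := CurveBundle.Twist.isEquivalence (TensorMod.Invertible.isInvertible_dual hM)
  let ψ' : F.obj Q ≅ Q := ψ
  -- `F Q ⟶ T` factors through `F T`
  haveI : (G.obj T).IsQuasicoherent := ‹(CohB1.tensorMod T (TensorMod.Dual.dual M)).IsQuasicoherent›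
  haveI : (F.obj T).IsQuasicoherent := ‹(CohB1.tensorMod T M).IsQuasicoherent›
  obtain ⟨c, hc⟩ := existsUnique_factor q hq (W := G.obj T) hTM' (e.inv.app Q ≫ G.map (ψ'.hom ≫ q))
  obtain ⟨b, hb⟩ : ∃ b : F.obj T ⟶ T, F.map q ≫ b = ψ'.hom ≫ q := by
    refine ⟨G.preimage (e.hom.app T ≫ c), G.map_injective ?_⟩
    rw [G.map_comp, G.map_preimage]
    refine (e.hom.naturality_assoc q c).trans ?_
    show e.hom.app Q ≫ q ≫ c = _
    rw [hc]
    exact Iso.hom_inv_id_app_assoc e Q _
  obtain ⟨a, ha⟩ := existsUnique_factor q hq (W := F.obj T) hTM (ψ'.inv ≫ F.map q)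
  have h1 : b ≫ a = 𝟙 (F.obj T) := by
    rw [← cancel_epi (F.map q), Category.comp_id, reassoc_of% hb, ha, Iso.hom_inv_id_assoc]
  have h2 : a ≫ b = 𝟙 T := by
    rw [← cancel_epi q, Category.comp_id, reassoc_of% ha, hb, Iso.inv_hom_id_assoc]
  exact ⟨⟨b, a, h1, h2⟩⟩

/-- A coherent module of positive generic rank isomorphic to its twist by an invertible module
makes that module torsion in the Picard group, the local rings being principal. -/
theorem exists_pow_eq_one (hP : ∀ x : X, IsPrincipalIdealRing (X.presheaf.stalk x))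
    {Q : X.Modules} (hQ : Coh.IsCoh Q) (hne : ¬ Subsingleton (Q.presheaf.stalk (genericPoint X)))
    {M : X.Modules} (hM : PicF.IsInvertible M) (ψ : CohB1.tensorMod Q M ≅ Q) :
    (PicGrp.cls M hM : PicLoc.PicSet X) ^
      (Module.finrank (X.presheaf.stalk (genericPoint X)) (Q.presheaf.stalk (genericPoint X))) = 1 ∧
      0 < Module.finrank (X.presheaf.stalk (genericPoint X)) (Q.presheaf.stalk (genericPoint X)) := by
  let _ : Field (X.presheaf.stalk (genericPoint X)) := inferInstanceAs (Field X.functionField)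
  haveI : Module.Finite (X.presheaf.stalk (genericPoint X)) (Q.presheaf.stalk (genericPoint X)) :=
    CurveBundle.Rank.finite_generic hQ
  haveI : Nontrivial (Q.presheaf.stalk (genericPoint X)) := not_subsingleton_iff_nontrivial.1 hne
  refine ⟨?_, Module.finrank_pos⟩
  obtain ⟨T, q, _, hTc, hT, hq⟩ := CurveBundle.Saturation.exists_torsionFree_quotient Q hQ
  have hbij : Function.Bijective (Modules.StalkModule.stalkMapₗ q (genericPoint X)) :=
    ⟨hq, (AddCommGrpCat.epi_iff_surjective _).mp (Functor.map_epi (Modules.Stalk.stalkFunctor X _) q)⟩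
  have hr := CurveBundle.LocFree.isFinLocFreeOfRank hP hTc hT
  rw [← (LinearEquiv.ofBijective _ hbij).finrank_eq] at hr
  set r := Module.finrank (X.presheaf.stalk (genericPoint X)) (Q.presheaf.stalk (genericPoint X))
  have htf : ∀ {W : X.Modules}, FlatMod.IsFinLocFreeOfRank r W → TorSh.IsTorsionFree W := fun {W} hW y => by
    obtain ⟨b⟩ := CurveBundle.Coherent.exists_basis_stalk hW y
    haveI := Module.Free.of_basis b
    infer_instance
  have hrM : FlatMod.IsFinLocFreeOfRank r (CohB1.tensorMod T M) := by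
    simpa using TensorMod.LocFree.rank_tensorMod hr (TensorMod.LocFree.of_isInvertible hM)
  have hrM' : FlatMod.IsFinLocFreeOfRank r (CohB1.tensorMod T (TensorMod.Dual.dual M)) := by
    simpa using TensorMod.LocFree.rank_tensorMod hr
      (TensorMod.LocFree.of_isInvertible (TensorMod.Invertible.isInvertible_dual hM))
  haveI : (CohB1.tensorMod T M).IsQuasicoherent :=
    (Perfect.Coherent.isCoh_of_isFinLocFree (TensorMod.LocFree.of_rank hrM)).1
  haveI : (CohB1.tensorMod T (TensorMod.Dual.dual M)).IsQuasicoherent :=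
    (Perfect.Coherent.isCoh_of_isFinLocFree (TensorMod.LocFree.of_rank hrM')).1
  obtain ⟨θ⟩ := exists_iso_twist q hq hT hM (htf hrM) (htf hrM') ψ
  haveI : T.IsQuasicoherent := hTc.1
  obtain ⟨N, hN⟩ := FundLocal.ExtPowExists.exists_isExtPow (E := T) r
  obtain ⟨A⟩ := Cyc.CH.nonempty_detAtlas_of_isExtPow hr hN
  have hNi := A.isInvertible
  have hN' : ExtPow.IsExtPow r (CohB1.tensorMod T M) N := PnOmega.CanonicalOver.isExtPow_congr θ.symm hN
  obtain ⟨φM, hφM⟩ := hN'
  obtain ⟨φN, hφN⟩ := hN
  obtain ⟨e⟩ := Modules.ExtPowTwist.nonempty_iso φM hφM φN hφN hM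
  have hpow : PicF.cl (CohB1.tensorPow M r) = ((PicGrp.cls M hM : PicLoc.PicSet X) ^ r).1 :=
    (PicGrp.cls_pow_val hM r).symm
  have h1 : (PicGrp.cls N hNi : PicLoc.PicSet X) = PicGrp.cls N hNi * PicGrp.cls M hM ^ r :=
    (H3.PicCalc.iso_iff rfl (H3.PicCalc.cl_tensor rfl hpow)).1 ⟨e⟩
  exact left_eq_mul.1 h1

end

end Groth.Agent.H21.SuppFinite
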